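import Cfsg.Agent.Signalizer.Generation
import Cfsg.Agent.LAE60.PPrimeFix
import Cfsg.Agent.OddLocal.MinSimple
import Cfsg.Agent.Modules.Fixed
import Mathlib.Algebra.BigOperators.Group.Finset.Basic
import Mathlib.GroupTheory.SpecificGroups.Cyclic
import Mathlib.RingTheory.ZMod.UnitsCyclic

/-!
An elementary abelian group `E` of order `p³` and an element `w` of prime order normalized by `E`,
both acting on an elementary abelian `s`-group `H` such that every subgroup of order `p²` of `E`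
contains an element with a small centralizer in `H`.

These are the linear algebra facts used for the proof of BG Theorem 9.5.
-/

set_option autoImplicit false

namespace Cfsg.Agent.OddLocal

open Subgroup
open scoped commutatorElement

variable {Γ : Type*} [Group Γ] [Finite Γ]

/-- `w` has prime order `≠ s`, normalizes `H`, is normalized but not centralized by `E`, and
centralized by the subgroup `Pl`; its centralizer in `H` has order at most `s`. -/
structure Kind (p s : ℕ) (E H : Subgroup Γ) (w : Γ) (Pl : Subgroup Γ) : Prop where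
  normH : w ∈ normalizer (H : Set Γ)
  normW : E ≤ normalizer (zpowers w : Set Γ)
  prime : (orderOf w).Prime
  neS : orderOf w ≠ s
  le : Pl ≤ E
  card : p ^ 2 ≤ Nat.card Pl
  fix : Pl ≤ centralizer ({w} : Set Γ)
  moved : ¬ E ≤ centralizer ({w} : Set Γ)
  small : Nat.card (H ⊓ centralizer ({w} : Set Γ) : Subgroup Γ) ≤ s

/-- The standing hypotheses. -/
structure KindSetup (p s : ℕ) (E H : Subgroup Γ) : Prop where
  pp : p.Prime
  ps : s.Prime
  p2 : p ≠ 2
  nsp : s ≠ p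
  hE : Cfsg.IsElementaryAbelian p E
  cardE : Nat.card E = p ^ 3
  hH : Cfsg.IsElementaryAbelian s H
  hEH : E ≤ normalizer (H : Set Γ)
  cardH : s ^ 3 ≤ Nat.card H
  small : ∀ B : Subgroup Γ, B ≤ E → p ^ 2 ≤ Nat.card B →
    ∃ b ∈ B, b ≠ 1 ∧ Nat.card (H ⊓ centralizer ({b} : Set Γ) : Subgroup Γ) ≤ s

variable {p s : ℕ} {E H : Subgroup Γ} {w : Γ} {Pl : Subgroup Γ}

theorem eq_zpowers_of_card_le {K : Subgroup Γ} (hs : s.Prime) (hK : ∀ x ∈ K, x ^ s = 1)
    (hc : Nat.card K ≤ s) {h : Γ} (hh : h ∈ K) (h1 : h ≠ 1) : K = zpowers h := by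
  haveI : Fact s.Prime := ⟨hs⟩
  refine (Subgroup.eq_of_le_of_card_ge (zpowers_le.2 hh) ?_).symm
  rwa [Nat.card_zpowers, orderOf_eq_prime (hK h hh) h1]

/-- Three proper subgroups of an elementary abelian group of order `p³`, `p` odd, do not cover it. -/
theorem exists_not_mem_three (hp : p.Prime) (hp2 : p ≠ 2) (hE : Cfsg.IsElementaryAbelian p E)
    (hcard : Nat.card E = p ^ 3) {A B C : Subgroup Γ} (hA : A ≤ E) (hB : B ≤ E) (hC : C ≤ E)
    (hA' : A ≠ E) (hB' : B ≠ E) (hC' : C ≠ E) : ∃ y ∈ E, y ∉ A ∧ y ∉ B ∧ y ∉ C := by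
  haveI : Fact p.Prime := ⟨hp⟩
  by_contra hne
  push Not at hne
  have hsub : (E : Set Γ) ⊆ (A : Set Γ) ∪ (B : Set Γ) ∪ (C : Set Γ) := by
    intro y hy
    by_cases h1 : y ∈ A
    · exact Or.inl (Or.inl h1)
    by_cases h2 : y ∈ B
    · exact Or.inl (Or.inr h2)
    exact Or.inr (hne y hy h1 h2)
  have hle : ∀ K : Subgroup Γ, K ≤ E → K ≠ E → Nat.card K * p ≤ p ^ 3 := fun K hK hK' =>
    hcard ▸ Signalizer.mul_prime_le_card_of_lt (Signalizer.elemAb_isPGroup hE) (lt_of_le_of_ne hK hK')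
  have h := (Set.ncard_le_ncard (s := (E : Set Γ)) hsub (Set.toFinite _)).trans
    (Set.ncard_union_le _ _)
  have h' : Set.ncard ((A : Set Γ) ∪ (B : Set Γ)) + Set.ncard (C : Set Γ) ≤
      Set.ncard (A : Set Γ) + Set.ncard (B : Set Γ) + Set.ncard (C : Set Γ) :=
    Nat.add_le_add_right (Set.ncard_union_le _ _) _
  have e : ∀ K : Subgroup Γ, Set.ncard (K : Set Γ) = Nat.card K := fun K =>
    (Nat.card_coe_set_eq (K : Set Γ)).symm
  have h2 := h.trans h'
  rw [e, e, e, e, hcard] at h2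
  -- the identity is counted three times
  have hp3 : 3 ≤ p := by have := hp.two_le; omega
  have hp30 : 0 < p ^ 3 := pow_pos hp.pos 3
  have := hle A hA hA'
  have := hle B hB hB'
  have := hle C hC hC'
  rcases eq_or_lt_of_le hp3 with rfl | hp4
  · -- `p = 3`: the three subgroups share the identity
    have hinter : Set.ncard ((A : Set Γ) ∩ (B : Set Γ)) ≠ 0 := by
      exact Set.ncard_ne_zero_of_mem (a := (1 : Γ)) ⟨A.one_mem, B.one_mem⟩
    have h3 := Set.ncard_union_add_ncard_inter (A : Set Γ) (B : Set Γ)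
    rw [e, e] at h3
    rw [e] at h
    rw [hcard, e] at h
    omega
  · nlinarith

namespace KindSetup

variable (S : KindSetup p s E H)
include S

theorem card_inf_centralizer_le {B : Subgroup Γ} (hB : B ≤ E) (hBc : p ^ 2 ≤ Nat.card B) :
    Nat.card (H ⊓ centralizer (B : Set Γ) : Subgroup Γ) ≤ s := by
  obtain ⟨b, hb, -, hc⟩ := S.small B hB hBc
  refine le_trans (Subgroup.card_le_of_le (inf_le_inf_left _ ?_)) hc
  exact Subgroup.centralizer_le (Set.singleton_subset_iff.2 hb)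

theorem comm_H {a b : Γ} (ha : a ∈ H) (hb : b ∈ H) : a * b = b * a :=
  haveI : Fact s.Prime := ⟨S.ps⟩
  Signalizer.elemAb_comm S.hH ha hb

theorem not_dvd_card_of_le {Y : Subgroup Γ} (hY : Y ≤ H) : ¬ p ∣ Nat.card Y := by
  haveI : Fact s.Prime := ⟨S.ps⟩
  obtain ⟨n, hn⟩ := ((Signalizer.elemAb_isPGroup S.hH).to_le hY).exists_card_eq
  rw [hn]
  exact fun h => S.nsp ((Nat.prime_dvd_prime_iff_eq S.pp S.ps).1 (S.pp.dvd_of_dvd_pow h)).symm

theorem relIndex_le {B : Subgroup Γ} (hB : B ≤ E) (hi : B.relIndex E ≤ p) :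
    p ^ 2 ≤ Nat.card B := by
  have h : Nat.card B * B.relIndex E = p ^ 3 := by
    rw [← S.cardE, ← relIndex_bot_left, relIndex_mul_relIndex _ _ _ bot_le hB, relIndex_bot_left]
  have hp0 := S.pp.pos
  nlinarith [Nat.mul_le_mul_left (Nat.card B) hi]

/-- An `E`-invariant subgroup of `H` is generated by its elements fixed by subgroups of order
`p²`. -/
theorem le_of_lines {Y K : Subgroup Γ} (hY : Y ≤ H) (hEY : E ≤ normalizer (Y : Set Γ))
    (h : ∀ B : Subgroup Γ, B ≤ E → p ^ 2 ≤ Nat.card B → ∀ z ∈ Y, z ∈ centralizer (B : Set Γ) →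
      z ≠ 1 → z ∈ K) : Y ≤ K := by
  haveI : Fact p.Prime := ⟨S.pp⟩
  refine Signalizer.le_of_forall_hyperplane S.hE hEY (S.not_dvd_card_of_le hY)
    fun B hB hi z hz => ?_
  by_cases hz1 : z = 1
  · exact hz1 ▸ one_mem K
  · exact h B hB (S.relIndex_le hB hi) z hz.1 hz.2 hz1

theorem exists_line {Y : Subgroup Γ} (hY : Y ≤ H) (hEY : E ≤ normalizer (Y : Set Γ)) (hne : Y ≠ ⊥) :
    ∃ B : Subgroup Γ, B ≤ E ∧ p ^ 2 ≤ Nat.card B ∧
      ∃ z ∈ Y, z ∈ centralizer (B : Set Γ) ∧ z ≠ 1 := by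
  by_contra hno
  refine hne (le_bot_iff.1 (S.le_of_lines hY hEY fun B hB hBc z hz hzc hz1 => ?_))
  exact absurd ⟨B, hB, hBc, z, hz, hzc, hz1⟩ hno

theorem line_eq {B : Subgroup Γ} (hB : B ≤ E) (hBc : p ^ 2 ≤ Nat.card B) {z : Γ} (hz : z ∈ H)
    (hzc : z ∈ centralizer (B : Set Γ)) (hz1 : z ≠ 1) : H ⊓ centralizer (B : Set Γ) = zpowers z :=
  eq_zpowers_of_card_le (K := H ⊓ centralizer (B : Set Γ)) S.ps (fun x hx => S.hH.2 x hx.1)
    (S.card_inf_centralizer_le hB hBc)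
    ⟨hz, hzc⟩ hz1

theorem le_normalizer_line {B : Subgroup Γ} (hB : B ≤ E) :
    E ≤ normalizer ((H ⊓ centralizer (B : Set Γ) : Subgroup Γ) : Set Γ) := by
  haveI : Fact p.Prime := ⟨S.pp⟩
  exact Signalizer.le_normalizer_inf S.hEH
    (Signalizer.le_normalizer_centralizer_of_le S.hE.1 hB)

variable (K : Kind p s E H w Pl)
include K

theorem pl_eq : Pl = E ⊓ centralizer ({w} : Set Γ) := by
  haveI : Fact p.Prime := ⟨S.pp⟩
  refine Subgroup.eq_of_le_of_card_ge (le_inf K.le K.fix) ?_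
  have hlt : E ⊓ centralizer ({w} : Set Γ) < E :=
    lt_of_le_of_ne inf_le_left fun h => K.moved (h ▸ inf_le_right)
  have h := Signalizer.mul_prime_le_card_of_lt (Signalizer.elemAb_isPGroup S.hE) hlt
  rw [S.cardE] at h
  have hc := K.card
  have hp0 := S.pp.pos
  nlinarith

theorem pl_ne : Pl ≠ E := fun h => K.moved (h ▸ K.fix)

/-- `Z = [H, w]`. -/
theorem zpowers_normH : zpowers w ≤ normalizer (H : Set Γ) := zpowers_le.2 K.normH

theorem isPGroup_w : IsPGroup (orderOf w) (zpowers w) :=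
  IsPGroup.of_card (n := 1) (by rw [Nat.card_zpowers, pow_one])

theorem w_not_dvd : ¬ orderOf w ∣ Nat.card H := by
  haveI : Fact s.Prime := ⟨S.ps⟩
  obtain ⟨n, hn⟩ := (Signalizer.elemAb_isPGroup S.hH).exists_card_eq
  rw [hn]
  exact fun h => K.neS ((Nat.prime_dvd_prime_iff_eq K.prime S.ps).1 (K.prime.dvd_of_dvd_pow h))

theorem comm_le : ⁅H, zpowers w⁆ ≤ H := Signalizer.commutator_le_self (S.zpowers_normH K)

theorem comm_normalized : E ≤ normalizer ((⁅H, zpowers w⁆ : Subgroup Γ) : Set Γ) :=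
  Signalizer.le_normalizer_commutator S.hEH K.normW

theorem w_mem_normalizer_comm : w ∈ normalizer ((⁅H, zpowers w⁆ : Subgroup Γ) : Set Γ) :=
  Subgroup.normalizer_commutator_ge_right _ _ (mem_zpowers w)

theorem comm_inf : ⁅H, zpowers w⁆ ⊓ centralizer ({w} : Set Γ) = ⊥ := by
  haveI : Fact s.Prime := ⟨S.ps⟩
  haveI := S.hH.1
  rw [← Signalizer.centralizer_zpowers]
  refine LAE60.commutator_inf_centralizer_eq_bot (p := s) (Signalizer.elemAb_isPGroup S.hH)
    (S.zpowers_normH K) fun c hc hck => ?_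
  obtain ⟨k, hk⟩ := hck
  have hc1 : c = 1 := by
    refine orderOf_eq_one_iff.1 (Nat.eq_one_of_dvd_coprimes
      (((Nat.coprime_primes K.prime S.ps).2 K.neS).pow_right k) ?_ (orderOf_dvd_of_pow_eq_one hk))
    rw [← Nat.card_zpowers w]
    exact Subgroup.orderOf_dvd_natCard _ hc
  exact hc1 ▸ one_mem _

theorem card_H_le :
    Nat.card H ≤ Nat.card (⁅H, zpowers w⁆ : Subgroup Γ) * s := by
  haveI : Fact (orderOf w).Prime := ⟨K.prime⟩
  have h := Signalizer.eq_inf_centralizer_sup_commutator (S.isPGroup_w K) (S.zpowers_normH K)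
    (S.w_not_dvd K)
  rw [Signalizer.centralizer_zpowers, sup_comm] at h
  have hn : H ⊓ centralizer ({w} : Set Γ) ≤
      normalizer ((⁅H, zpowers w⁆ : Subgroup Γ) : Set Γ) :=
    inf_le_left.trans (Subgroup.normalizer_commutator_ge_left _ _)
  calc Nat.card H = Nat.card ((⁅H, zpowers w⁆ ⊔ H ⊓ centralizer ({w} : Set Γ) : Subgroup Γ)) := by
        rw [← h]
    _ ≤ Nat.card (⁅H, zpowers w⁆ : Subgroup Γ) *
        Nat.card (H ⊓ centralizer ({w} : Set Γ) : Subgroup Γ) := by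
        refine Nat.le_of_dvd (Nat.mul_pos Nat.card_pos Nat.card_pos) ?_
        rw [sup_comm, mul_comm]
        exact card_sup_dvd_mul_of_normalizes hn
    _ ≤ Nat.card (⁅H, zpowers w⁆ : Subgroup Γ) * s := Nat.mul_le_mul_left _ K.small

theorem comm_ne_bot : ⁅H, zpowers w⁆ ≠ ⊥ := fun h => by
  have h1 := S.card_H_le K
  rw [h, Subgroup.card_bot, one_mul] at h1
  have := S.cardH
  have : s < s ^ 3 := lt_self_pow₀ S.ps.one_lt (by norm_num)
  omega

/-- An element of `E` not centralizing `w` has fixed points on every invariant subgroup on which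
`w` is fixed point free. -/
theorem fixed_ne_bot {Y : Subgroup Γ} (hY : Y ≤ H) (hwY : w ∈ normalizer (Y : Set Γ))
    (hEY : E ≤ normalizer (Y : Set Γ)) (hYne : Y ≠ ⊥)
    (hYw : Y ⊓ centralizer ({w} : Set Γ) = ⊥) {y : Γ} (hy : y ∈ E) (hyP : y ∉ Pl) :
    Y ⊓ centralizer ({y} : Set Γ) ≠ ⊥ := by
  classical
  intro hCH
  haveI : Fintype (zpowers y) := Fintype.ofFinite _
  haveI : Fintype (zpowers w) := Fintype.ofFinite _
  letI : CommGroup Y := { (inferInstance : Group Y) with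
    mul_comm := fun a b => Subtype.ext (S.comm_H (hY a.2) (hY b.2)) }
  let N : Subgroup Γ := normalizer (Y : Set Γ)
  let c : N → Y →* Y := fun e => ((MulAut.conj (e : Γ)).toMonoidHom.comp Y.subtype).codRestrict Y
    (fun x => (Subgroup.mem_normalizer_iff.1 e.2 x).1 x.2)
  have hc : ∀ (e d : N) (v : Y), c e (c d v) = c (e * d) v := fun e d v =>
    Subtype.ext (by simp [c, MulAut.conj_apply, mul_assoc])
  have hfix : ∀ (v : Y) (e : N), c e v = v → (v : Γ) * e = (e : Γ) * v := fun v e h =>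
    (mul_inv_eq_iff_eq_mul.1 (congrArg Subtype.val h)).symm
  have hyN : zpowers y ≤ N := zpowers_le.2 (hEY hy)
  have hwN : zpowers w ≤ N := zpowers_le.2 hwY
  let iy : zpowers y → N := fun a => ⟨a, hyN a.2⟩
  let iw : zpowers w → N := fun a => ⟨a, hwN a.2⟩
  have hy' : ∀ v : Y, ∏ a : zpowers y, c (iy a) v = 1 := by
    intro v
    have hP : ((∏ a : zpowers y, c (iy a) v : Y) : Γ) ∈ Y ⊓ centralizer ({y} : Set Γ) := by
      refine ⟨SetLike.coe_mem _, ?_⟩
      show _ ∈ centralizer ({y} : Set Γ)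
      rw [Subgroup.mem_centralizer_singleton_iff]
      refine hfix _ (iy ⟨y, mem_zpowers y⟩) ?_
      rw [map_prod]
      simp only [hc]
      exact Fintype.prod_equiv (Equiv.mulLeft (⟨y, mem_zpowers y⟩ : zpowers y)) _ _ fun a => rfl
    rw [hCH, Subgroup.mem_bot] at hP
    exact Subtype.ext hP
  have hw' : ∀ v : Y, ∏ a : zpowers w, c (iw a) v = 1 := by
    intro v
    have hP : ((∏ a : zpowers w, c (iw a) v : Y) : Γ) ∈ Y ⊓ centralizer ({w} : Set Γ) := by
      refine ⟨SetLike.coe_mem _, ?_⟩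
      show _ ∈ centralizer ({w} : Set Γ)
      rw [Subgroup.mem_centralizer_singleton_iff]
      refine hfix _ (iw ⟨w, mem_zpowers w⟩) ?_
      rw [map_prod]
      simp only [hc]
      exact Fintype.prod_equiv (Equiv.mulLeft (⟨w, mem_zpowers w⟩ : zpowers w)) _ _ fun a => rfl
    rw [hYw, Subgroup.mem_bot] at hP
    exact Subtype.ext hP
  obtain ⟨v, hv, hv1⟩ := (Subgroup.bot_or_exists_ne_one Y).resolve_left hYne
  set u : Y := ⟨v, hv⟩
  have h1 : ∏ a : zpowers y, ∏ k : zpowers w, c (iw k * iy a * (iw k)⁻¹) u = 1 := by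
    rw [Finset.prod_comm]
    refine Finset.prod_eq_one fun k _ => ?_
    have h2 : ∀ a : zpowers y, c (iw k * iy a * (iw k)⁻¹) u = c (iw k) (c (iy a) (c (iw k)⁻¹ u)) :=
      fun a => by rw [hc, hc, mul_assoc]
    simp only [h2, ← map_prod, hy', map_one]
  rw [Finset.prod_eq_single (1 : zpowers y)] at h1
  · have hcard : u ^ orderOf w = 1 := by
      rw [← h1]
      have h2 : ∀ k : zpowers w, c (iw k * iy 1 * (iw k)⁻¹) u = u := fun k =>
        Subtype.ext (by simp [c, iy, MulAut.conj_apply])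
      simp only [h2, Finset.prod_const, Finset.card_univ]
      rw [← Nat.card_eq_fintype_card, Nat.card_zpowers]
    have hco : (Nat.card Y).Coprime (orderOf w) :=
      (K.prime.coprime_iff_not_dvd.2 fun h =>
        S.w_not_dvd K (h.trans (Subgroup.card_dvd_of_le hY))).symm
    exact hv1 (congrArg Subtype.val ((powCoprime hco).injective (hcard.trans (one_pow _).symm)) :)
  · intro a _ ha
    have hay : (a : Γ) ∈ E := zpowers_le.2 hy a.2
    have hmove : (a : Γ) * w ≠ w * a := by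
      intro h
      haveI : Fact p.Prime := ⟨S.pp⟩
      refine hyP ?_
      rw [S.pl_eq K]
      refine ⟨hy, ?_⟩
      have hgen : zpowers (a : Γ) = zpowers y := by
        refine Subgroup.eq_of_le_of_card_ge (zpowers_le.2 a.2) ?_
        rw [Nat.card_zpowers, Nat.card_zpowers,
          Signalizer.elemAb_orderOf S.hE hay (fun e => ha (Subtype.ext e))]
        exact Nat.le_of_dvd S.pp.pos (orderOf_dvd_of_pow_eq_one (S.hE.2 y hy))
      have hle : zpowers (a : Γ) ≤ centralizer ({w} : Set Γ) :=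
        zpowers_le.2 (Subgroup.mem_centralizer_singleton_iff.2 h)
      exact hle (hgen.ge (mem_zpowers y))
    have hmem : ∀ k : zpowers w, (k : Γ) * ((a : Γ) * (k : Γ)⁻¹ * (a : Γ)⁻¹) ∈ zpowers w :=
      fun k => mul_mem k.2 ((Subgroup.mem_normalizer_iff.1 (K.normW hay) _).1 (inv_mem k.2))
    let σ : zpowers w → zpowers w := fun k => ⟨_, hmem k⟩
    have hcommW : ∀ k l : zpowers w, (k : Γ) * l = (l : Γ) * k := by
      rintro ⟨_, i, rfl⟩ ⟨_, j, rfl⟩
      exact (Commute.refl w).zpow_zpow i j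
    have hσ : Function.Bijective σ := by
      refine Finite.injective_iff_bijective.1 fun k l hkl => ?_
      by_contra hne
      refine hmove ?_
      have h2 : (k : Γ) * a * (k : Γ)⁻¹ = (l : Γ) * a * (l : Γ)⁻¹ := by
        have h3 := congrArg Subtype.val hkl
        simp only [σ, ← mul_assoc] at h3
        exact mul_right_cancel h3
      have hm : ((l : Γ)⁻¹ * k) * a = a * ((l : Γ)⁻¹ * k) := by
        calc ((l : Γ)⁻¹ * k) * a = (l : Γ)⁻¹ * ((k : Γ) * a * (k : Γ)⁻¹) * k := by group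
          _ = (l : Γ)⁻¹ * ((l : Γ) * a * (l : Γ)⁻¹) * k := by rw [h2]
          _ = a * ((l : Γ)⁻¹ * k) := by group
      have hgen : zpowers w = zpowers ((l : Γ)⁻¹ * k) := by
        refine (Subgroup.eq_of_le_of_card_ge (zpowers_le.2 (mul_mem (inv_mem l.2) k.2)) ?_).symm
        rw [Nat.card_zpowers, Nat.card_zpowers]
        rcases K.prime.eq_one_or_self_of_dvd _ (show orderOf ((l : Γ)⁻¹ * k) ∣ orderOf w by
          rw [← Nat.card_zpowers w]
          exact Subgroup.orderOf_dvd_natCard _ (mul_mem (inv_mem l.2) k.2)) with h | h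
        · exact absurd (Subtype.ext (inv_mul_eq_one.1 (orderOf_eq_one_iff.1 h)).symm) hne
        · exact h.ge
      have hle : zpowers ((l : Γ)⁻¹ * k) ≤ centralizer ({(a : Γ)} : Set Γ) :=
        zpowers_le.2 (Subgroup.mem_centralizer_singleton_iff.2 hm)
      exact (Subgroup.mem_centralizer_singleton_iff.1 (hle (hgen.le (mem_zpowers w)))).symm
    rw [← hw' (c (iy a) u)]
    refine Fintype.prod_bijective σ hσ _ _ fun k => ?_
    rw [hc]
    congr 2
    apply Subtype.ext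
    simp [σ, iw, iy, mul_assoc]
  · exact fun h => absurd (Finset.mem_univ _) h

/-- If `E` normalizes the subgroup generated by `h` and `w` does, then `w` centralizes `h`. -/
theorem w_commute_of_line {h : Γ} (hh : h ∈ H) (hEh : E ≤ normalizer (zpowers h : Set Γ))
    (hwh : w ∈ normalizer (zpowers h : Set Γ)) : h * w = w * h := by
  by_contra hne
  obtain ⟨e, he, hew⟩ := SetLike.not_le_iff_exists.1 K.moved
  have hd : ∀ g ∈ normalizer (zpowers h : Set Γ), ∃ i : ℤ, g * h * g⁻¹ = h ^ i := fun g hg =>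
    (Subgroup.mem_zpowers_iff.1 ((Subgroup.mem_normalizer_iff.1 hg h).1 (mem_zpowers h))).imp
      fun _ hi => hi.symm
  obtain ⟨i, hi⟩ := hd w hwh
  obtain ⟨j, hj⟩ := hd e (hEh he)
  have hconj : ∀ (g : Γ) (k : ℤ), g * h ^ k * g⁻¹ = (g * h * g⁻¹) ^ k := fun g k =>
    (conj_zpow (a := g) (b := h) (i := k)).symm
  -- `c = e w e⁻¹ w⁻¹` fixes `h`
  set c := e * w * e⁻¹ * w⁻¹ with hc
  have hcW : c ∈ zpowers w :=
    mul_mem ((Subgroup.mem_normalizer_iff.1 (K.normW he) w).1 (mem_zpowers w))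
      (inv_mem (mem_zpowers w))
  have h1 : e * w * h * (e * w)⁻¹ = w * e * h * (w * e)⁻¹ := by
    calc e * w * h * (e * w)⁻¹ = e * (w * h * w⁻¹) * e⁻¹ := by group
      _ = (e * h * e⁻¹) ^ i := by rw [hi, hconj]
      _ = (h ^ j) ^ i := by rw [hj]
      _ = (h ^ i) ^ j := by rw [← zpow_mul, ← zpow_mul, mul_comm]
      _ = w * (e * h * e⁻¹) * w⁻¹ := by rw [hj, hconj, hi]
      _ = w * e * h * (w * e)⁻¹ := by group
  have hfix : c * h = h * c := by
    set u := w * e * h * (w * e)⁻¹ with hu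
    have hcu : c * u = u * c := by
      have h2 : c * u * c⁻¹ = u := by
        calc c * u * c⁻¹ = e * w * h * (e * w)⁻¹ := by rw [hc, hu]; group
          _ = u := h1
      exact mul_inv_eq_iff_eq_mul.1 h2
    have huz : u ∈ zpowers h :=
      (Subgroup.mem_normalizer_iff.1 (mul_mem hwh (hEh he)) h).1 (mem_zpowers h)
    have hgen : zpowers u = zpowers h := by
      refine Subgroup.eq_of_le_of_card_ge (zpowers_le.2 huz) ?_
      rw [Nat.card_zpowers, Nat.card_zpowers, hu]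
      exact le_of_eq (MulEquiv.orderOf_eq (MulAut.conj (w * e)) h).symm
    have hle : zpowers u ≤ centralizer ({c} : Set Γ) :=
      zpowers_le.2 (Subgroup.mem_centralizer_singleton_iff.2 hcu.symm)
    exact (Subgroup.mem_centralizer_singleton_iff.1 (hle (hgen.ge (mem_zpowers h)))).symm
  have hc1 : c ≠ 1 := by
    intro h0
    refine hew (Subgroup.mem_centralizer_singleton_iff.2 ?_)
    rw [hc, mul_inv_eq_one, mul_inv_eq_iff_eq_mul] at h0
    exact h0
  have hgen : zpowers w = zpowers c := by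
    refine (Subgroup.eq_of_le_of_card_ge (zpowers_le.2 hcW) ?_).symm
    rw [Nat.card_zpowers, Nat.card_zpowers]
    rcases K.prime.eq_one_or_self_of_dvd _ (show orderOf c ∣ orderOf w by
      rw [← Nat.card_zpowers w]; exact Subgroup.orderOf_dvd_natCard _ hcW) with h | h
    · exact absurd (orderOf_eq_one_iff.1 h) hc1
    · exact h.ge
  have hle : zpowers c ≤ centralizer ({h} : Set Γ) :=
    zpowers_le.2 (Subgroup.mem_centralizer_singleton_iff.2 hfix)
  exact hne (Subgroup.mem_centralizer_singleton_iff.1 (hle (hgen.le (mem_zpowers w)))).symm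

/-- Elements of `Pl` act on `[H, w]` as powers. -/
theorem scalar {x : Γ} (hx : x ∈ Pl) :
    ∃ a : ℕ, ∀ z ∈ ⁅H, zpowers w⁆, x * z * x⁻¹ = z ^ a := by
  haveI : Fact p.Prime := ⟨S.pp⟩
  haveI : Fact s.Prime := ⟨S.ps⟩
  set Z := ⁅H, zpowers w⁆ with hZdef
  have hxE := K.le hx
  -- eigenspaces
  let Za : ℕ → Subgroup Γ := fun a =>
    { carrier := {z | z ∈ Z ∧ x * z * x⁻¹ = z ^ a}
      one_mem' := ⟨one_mem _, by simp⟩
      mul_mem' := fun {u v} hu hv => ⟨Z.mul_mem hu.1 hv.1, by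
        rw [(show Commute u v from S.comm_H (S.comm_le K hu.1) (S.comm_le K hv.1)).mul_pow,
          ← hu.2, ← hv.2]
        group⟩
      inv_mem' := fun {u} hu => ⟨Z.inv_mem hu.1, by rw [inv_pow, ← hu.2]; group⟩ }
  have hinv : ∀ (a : ℕ) (g : Γ), g ∈ normalizer (Z : Set Γ) → g * x = x * g →
      g ∈ normalizer (Za a : Set Γ) := by
    intro a g hg hgx
    have hmap : ∀ g' : Γ, g' ∈ normalizer (Z : Set Γ) → g' * x = x * g' → ∀ z ∈ Za a,
        g' * z * g'⁻¹ ∈ Za a := by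
      intro g' hg' hg'x z hz
      refine ⟨(Subgroup.mem_normalizer_iff.1 hg' z).1 hz.1, ?_⟩
      rw [conj_pow, ← hz.2]
      calc x * (g' * z * g'⁻¹) * x⁻¹ = (x * g') * z * (x * g')⁻¹ := by group
        _ = (g' * x) * z * (g' * x)⁻¹ := by rw [hg'x]
        _ = g' * (x * z * x⁻¹) * g'⁻¹ := by group
    rw [Subgroup.mem_normalizer_iff]
    intro z
    refine ⟨hmap g hg hgx z, fun h => ?_⟩
    have := hmap g⁻¹ (inv_mem hg) ((Commute.inv_left (show Commute g x from hgx)).eq) _ h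
    simpa [mul_assoc] using this
  have hwx : w * x = x * w :=
    (Subgroup.mem_centralizer_singleton_iff.1 (K.fix hx)).symm
  -- a line
  have hline : ∀ B : Subgroup Γ, B ≤ E → p ^ 2 ≤ Nat.card B → ∀ z ∈ Z, z ∈ centralizer (B : Set Γ) →
      z ≠ 1 → ∃ a : ℕ, z ∈ Za a := by
    intro B hB hBc z hz hzc hz1
    have hzH : z ∈ H ⊓ centralizer (B : Set Γ) := ⟨S.comm_le K hz, hzc⟩
    have hL := S.line_eq hB hBc hzH.1 hzc hz1
    have h := (Subgroup.mem_normalizer_iff.1 (S.le_normalizer_line hB hxE) z).1 hzH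
    rw [hL] at h
    obtain ⟨a, ha⟩ := (mem_powers_iff_mem_zpowers).2 h
    exact ⟨a, hz, ha.symm⟩
  obtain ⟨B₁, hB₁, hB₁c, z₁, hz₁, hz₁c, hz₁1⟩ :=
    S.exists_line (S.comm_le K) (S.comm_normalized K) (S.comm_ne_bot K)
  obtain ⟨a, ha⟩ := hline B₁ hB₁ hB₁c z₁ hz₁ hz₁c hz₁1
  refine ⟨a, fun z hz => ((?_ : Z ≤ Za a) hz).2⟩
  refine S.le_of_lines (S.comm_le K) (S.comm_normalized K) fun B hB hBc z hz hzc hz1 => ?_
  by_contra hzn
  obtain ⟨a', ha'⟩ := hline B hB hBc z hz hzc hz1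
  have hne : ¬ a ≡ a' [MOD s] := fun he => hzn ⟨hz, by
    rw [ha'.2]
    have ho : orderOf z = s := orderOf_eq_prime (S.hH.2 z (S.comm_le K hz)) hz1
    exact (pow_eq_pow_iff_modEq.2 (ho ▸ he)).symm⟩
  have hdisj : Za a ⊓ Za a' = ⊥ := by
    rw [eq_bot_iff]
    rintro u ⟨hu, hu'⟩
    refine Subgroup.mem_bot.2 ?_
    by_contra hu1
    have ho : orderOf u = s := orderOf_eq_prime (S.hH.2 u (S.comm_le K hu.1)) hu1
    have := pow_eq_pow_iff_modEq.1 (hu.2.symm.trans hu'.2)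
    exact hne (ho ▸ this)
  have hfix : ∀ b : ℕ, ∀ z₀ ∈ Za b, z₀ ≠ 1 → ∀ y ∈ E, y ∉ Pl →
      Za b ⊓ centralizer ({y} : Set Γ) ≠ ⊥ := by
    intro b z₀ hz₀ hz₀1 y hy hyP
    have hsub : Za b ≤ Z := fun u hu => hu.1
    refine S.fixed_ne_bot K (hsub.trans (S.comm_le K))
      (hinv b w (S.w_mem_normalizer_comm K) hwx) ?_ ?_ ?_ hy hyP
    · intro e he
      exact hinv b e (S.comm_normalized K he) (Signalizer.elemAb_comm S.hE he hxE)
    · exact fun h => hz₀1 (Subgroup.mem_bot.1 (h ▸ hz₀))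
    · exact le_bot_iff.1 ((inf_le_inf_right _ hsub).trans (S.comm_inf K).le)
  -- so elements with small centralizer lie in `Pl`
  obtain ⟨b, hbB, hb1, hbc⟩ := S.small B₁ hB₁ hB₁c
  have hbPl : b ∈ Pl := by
    by_contra hbP
    obtain ⟨u, hu, hu1⟩ := (Subgroup.bot_or_exists_ne_one _).resolve_left
      (hfix a z₁ ha hz₁1 b (hB₁ hbB) hbP)
    obtain ⟨u', hu', hu'1⟩ := (Subgroup.bot_or_exists_ne_one _).resolve_left
      (hfix a' z ha' hz1 b (hB₁ hbB) hbP)
    have hL := eq_zpowers_of_card_le (K := H ⊓ centralizer ({b} : Set Γ)) S.ps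
      (fun v hv => S.hH.2 v hv.1) hbc ⟨S.comm_le K hu.1.1, hu.2⟩ hu1
    have hmem : u' ∈ zpowers u := hL.le ⟨S.comm_le K hu'.1.1, hu'.2⟩
    have : u' ∈ Za a ⊓ Za a' := ⟨zpowers_le.2 hu.1 hmem, hu'.1⟩
    rw [hdisj, Subgroup.mem_bot] at this
    exact hu'1 this
  have hL := eq_zpowers_of_card_le (K := H ⊓ centralizer ({b} : Set Γ)) S.ps
    (fun v hv => S.hH.2 v hv.1) hbc (h := z₁) ⟨S.comm_le K hz₁,
      Subgroup.centralizer_le (Set.singleton_subset_iff.2 hbB) hz₁c⟩ hz₁1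
  have hwb : w ∈ normalizer (zpowers z₁ : Set Γ) := by
    rw [← hL]
    have hwC : w ∈ centralizer ({b} : Set Γ) := Subgroup.mem_centralizer_singleton_iff.2
      (Subgroup.mem_centralizer_singleton_iff.1 (K.fix hbPl)).symm
    exact inf_normalizer_le_normalizer_inf
      ⟨K.normH, Subgroup.le_normalizer hwC⟩
  have hEh : E ≤ normalizer (zpowers z₁ : Set Γ) := by
    rw [← hL, ← Signalizer.centralizer_zpowers]
    exact Signalizer.le_normalizer_inf S.hEH
      (Signalizer.le_normalizer_centralizer_of_le S.hE.1 (zpowers_le.2 (hB₁ hbB)))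
  have := S.w_commute_of_line K (S.comm_le K hz₁) hEh hwb
  have hmem : z₁ ∈ ⁅H, zpowers w⁆ ⊓ centralizer ({w} : Set Γ) :=
    ⟨hz₁, Subgroup.mem_centralizer_singleton_iff.2 this⟩
  rw [S.comm_inf K, Subgroup.mem_bot] at hmem
  exact hz₁1 hmem

/-- `|[H, w]| ≥ s³`. -/
theorem card_comm_ge : s ^ 3 ≤ Nat.card (⁅H, zpowers w⁆ : Subgroup Γ) := by
  haveI : Fact s.Prime := ⟨S.ps⟩
  haveI : Fact p.Prime := ⟨S.pp⟩
  set Z := ⁅H, zpowers w⁆ with hZdef
  by_contra hlt
  rw [not_le] at hlt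
  have hZH : Z ≤ H := S.comm_le K
  have hZp : IsPGroup s Z := (Signalizer.elemAb_isPGroup S.hH).to_le hZH
  have hle : Nat.card Z ≤ s ^ 2 := by
    obtain ⟨n, hn⟩ := hZp.exists_card_eq
    rw [hn] at hlt ⊢
    exact Nat.pow_le_pow_right S.ps.pos
      (Nat.lt_succ_iff.1 ((Nat.pow_lt_pow_iff_right S.ps.one_lt).1 hlt))
  obtain ⟨B₁, hB₁, hB₁c, z₁, hz₁, hz₁c, hz₁1⟩ :=
    S.exists_line hZH (S.comm_normalized K) (S.comm_ne_bot K)
  have hEz : ∀ B : Subgroup Γ, B ≤ E → p ^ 2 ≤ Nat.card B → ∀ z ∈ Z, z ∈ centralizer (B : Set Γ) →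
      z ≠ 1 → E ≤ normalizer (zpowers z : Set Γ) := fun B hB hBc z hz hzc hz1 => by
    rw [← S.line_eq hB hBc (hZH hz) hzc hz1]
    exact S.le_normalizer_line hB
  have hnofix : ∀ z ∈ Z, z ≠ 1 → ¬ E ≤ centralizer ({z} : Set Γ) := by
    intro z hz hz1 hEc
    have hZle : Z ≤ zpowers z := S.le_of_lines hZH (S.comm_normalized K) fun B hB hBc u hu huc _ => by
      have hzc : z ∈ centralizer (B : Set Γ) := Subgroup.mem_centralizer_iff.2 fun b hb =>
        Subgroup.mem_centralizer_singleton_iff.1 (hEc (hB hb))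
      rw [← S.line_eq hB hBc (hZH hz) hzc hz1]
      exact ⟨hZH hu, huc⟩
    have hZeq : Z = zpowers z := le_antisymm hZle (zpowers_le.2 hz)
    have := S.w_commute_of_line K (hZH hz) (hZeq ▸ S.comm_normalized K)
      (hZeq ▸ S.w_mem_normalizer_comm K)
    have hmem : z ∈ ⁅H, zpowers w⁆ ⊓ centralizer ({w} : Set Γ) :=
      ⟨hz, Subgroup.mem_centralizer_singleton_iff.2 this⟩
    rw [S.comm_inf K, Subgroup.mem_bot] at hmem
    exact hz1 hmem
  set K₁ := E ⊓ centralizer ({z₁} : Set Γ) with hK₁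
  have hK₁ne : K₁ ≠ E := fun h => hnofix z₁ hz₁ hz₁1 (h ▸ inf_le_right)
  obtain ⟨y, hy, hyP, hyK, -⟩ := exists_not_mem_three S.pp S.p2 S.hE S.cardE K.le
    (inf_le_left : K₁ ≤ E) (inf_le_left : K₁ ≤ E) (S.pl_ne K) hK₁ne hK₁ne
  set Y := Z ⊓ centralizer ({y} : Set Γ) with hY
  have hEY : E ≤ normalizer (Y : Set Γ) := Signalizer.le_normalizer_inf (S.comm_normalized K)
    (Signalizer.le_normalizer_centralizer_singleton S.hE.1 hy)
  obtain ⟨B₂, hB₂, hB₂c, z₂, hz₂, hz₂c, hz₂1⟩ := S.exists_line (inf_le_left.trans hZH) hEY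
    (S.fixed_ne_bot K hZH (S.w_mem_normalizer_comm K) (S.comm_normalized K) (S.comm_ne_bot K)
      (S.comm_inf K) hy hyP)
  have hn1 := hEz B₁ hB₁ hB₁c z₁ hz₁ hz₁c hz₁1
  have hn2 := hEz B₂ hB₂ hB₂c z₂ hz₂.1 hz₂c hz₂1
  have hz12 : z₂ ∉ zpowers z₁ := by
    intro hmem
    refine hyK ⟨hy, Subgroup.mem_centralizer_singleton_iff.2 ?_⟩
    have hgen : zpowers z₂ = zpowers z₁ := by
      refine Subgroup.eq_of_le_of_card_ge (zpowers_le.2 hmem) ?_
      rw [Nat.card_zpowers, Nat.card_zpowers, orderOf_eq_prime (S.hH.2 _ (hZH hz₂.1)) hz₂1,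
        orderOf_eq_prime (S.hH.2 _ (hZH hz₁)) hz₁1]
    have hle : zpowers z₂ ≤ centralizer ({y} : Set Γ) := zpowers_le.2 hz₂.2
    exact (Subgroup.mem_centralizer_singleton_iff.1 (hle (hgen.ge (mem_zpowers z₁)))).symm
  have hdisj : zpowers z₁ ⊓ zpowers z₂ = ⊥ := by
    rw [eq_bot_iff]
    rintro u ⟨hu1, hu2⟩
    refine Subgroup.mem_bot.2 ?_
    by_contra hu
    refine hz12 ?_
    have hgen : zpowers u = zpowers z₂ := by
      refine Subgroup.eq_of_le_of_card_ge (zpowers_le.2 hu2) ?_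
      rw [Nat.card_zpowers, Nat.card_zpowers, orderOf_eq_prime (S.hH.2 _ (hZH hz₂.1)) hz₂1,
        orderOf_eq_prime (S.hH.2 _ (hZH (zpowers_le.2 hz₁ hu1))) hu]
    exact zpowers_le.2 hu1 (hgen.ge (mem_zpowers z₂))
  have hZeq : zpowers z₁ ⊔ zpowers z₂ = Z := by
    have hle' : zpowers z₁ ⊔ zpowers z₂ ≤ Z := sup_le (zpowers_le.2 hz₁) (zpowers_le.2 hz₂.1)
    refine Subgroup.eq_of_le_of_card_ge hle' (hle.trans ?_)
    have h := Signalizer.mul_prime_le_card_of_lt (p := s) (hZp.to_le hle')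
      (lt_of_le_of_ne le_sup_left fun h => hz12 (h ▸ Subgroup.mem_sup_right (mem_zpowers z₂)))
    rwa [Nat.card_zpowers, orderOf_eq_prime (S.hH.2 _ (hZH hz₁)) hz₁1, ← sq] at h
  set K₂ := E ⊓ centralizer ({z₂} : Set Γ) with hK₂
  have hK₂ne : K₂ ≠ E := fun h => hnofix z₂ hz₂.1 hz₂1 (h ▸ inf_le_right)
  obtain ⟨y', hy', hy'P, hy'1, hy'2⟩ := exists_not_mem_three S.pp S.p2 S.hE S.cardE K.le
    (inf_le_left : K₁ ≤ E) (inf_le_left : K₂ ≤ E) (S.pl_ne K) hK₁ne hK₂ne
  obtain ⟨u, hu, hu1⟩ := (Subgroup.bot_or_exists_ne_one _).resolve_left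
    (S.fixed_ne_bot K hZH (S.w_mem_normalizer_comm K) (S.comm_normalized K) (S.comm_ne_bot K)
      (S.comm_inf K) hy' hy'P)
  obtain ⟨u₁, hu₁, u₂, hu₂, hu12⟩ : ∃ u₁ ∈ zpowers z₁, ∃ u₂ ∈ zpowers z₂, u₁ * u₂ = u := by
    have h : u ∈ zpowers z₁ ⊔ zpowers z₂ := hZeq.ge hu.1
    rw [← SetLike.mem_coe, coe_mul_of_left_le_normalizer_right] at h
    · exact Set.mem_mul.1 h
    · refine le_normalizer_iff.2 fun a ha b hb => ?_
      rw [S.comm_H (hZH (zpowers_le.2 hz₁ ha)) (hZH (zpowers_le.2 hz₂.1 hb)), mul_inv_cancel_right]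
      exact hb
  have hfix : y' * u * y'⁻¹ = u := by
    rw [← (Subgroup.mem_centralizer_singleton_iff.1 hu.2), mul_inv_cancel_right]
  have e1 : (y' * u₁ * y'⁻¹) * u₁⁻¹ = u₂ * (y' * u₂ * y'⁻¹)⁻¹ := by
    have h : (y' * u₁ * y'⁻¹) * (y' * u₂ * y'⁻¹) = u₁ * u₂ := by
      rw [hu12, ← hfix, ← hu12]; group
    have hcomm : u₁ * u₂ = u₂ * u₁ :=
      S.comm_H (hZH (zpowers_le.2 hz₁ hu₁)) (hZH (zpowers_le.2 hz₂.1 hu₂))
    rw [hcomm] at h
    rw [mul_inv_eq_iff_eq_mul, eq_mul_inv_of_mul_eq h]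
    have hc2 : Commute u₁ (y' * u₂ * y'⁻¹)⁻¹ :=
      (show Commute u₁ (y' * u₂ * y'⁻¹) from S.comm_H (hZH (zpowers_le.2 hz₁ hu₁))
        (hZH (zpowers_le.2 hz₂.1 ((Subgroup.mem_normalizer_iff.1 (hn2 hy') _).1 hu₂)))).inv_right
    rw [mul_assoc, hc2.eq, ← mul_assoc]
  have m1 : (y' * u₁ * y'⁻¹) * u₁⁻¹ ∈ zpowers z₁ :=
    mul_mem ((Subgroup.mem_normalizer_iff.1 (hn1 hy') _).1 hu₁) (inv_mem hu₁)
  have m2 : u₂ * (y' * u₂ * y'⁻¹)⁻¹ ∈ zpowers z₂ :=
    mul_mem hu₂ (inv_mem ((Subgroup.mem_normalizer_iff.1 (hn2 hy') _).1 hu₂))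
  have z0 : (y' * u₁ * y'⁻¹) * u₁⁻¹ = 1 :=
    Subgroup.mem_bot.1 (hdisj ▸ (⟨m1, e1 ▸ m2⟩ : _ ∈ zpowers z₁ ⊓ zpowers z₂))
  have hkill : ∀ (z v : Γ), z ∈ Z → z ≠ 1 → y' ∉ E ⊓ centralizer ({z} : Set Γ) → v ∈ zpowers z →
      y' * v * y'⁻¹ = v → v = 1 := by
    intro z v hz hz1 hyz hv hfixv
    by_contra hv1
    refine hyz ⟨hy', ?_⟩
    have hgen : zpowers v = zpowers z := by
      refine Subgroup.eq_of_le_of_card_ge (zpowers_le.2 hv) ?_
      rw [Nat.card_zpowers, Nat.card_zpowers, orderOf_eq_prime (S.hH.2 _ (hZH hz)) hz1,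
        orderOf_eq_prime (S.hH.2 _ (hZH (zpowers_le.2 hz hv))) hv1]
    have hle : zpowers v ≤ centralizer ({y'} : Set Γ) :=
      zpowers_le.2 (Subgroup.mem_centralizer_singleton_iff.2 (mul_inv_eq_iff_eq_mul.1 hfixv).symm)
    exact Subgroup.mem_centralizer_singleton_iff.2
      (Subgroup.mem_centralizer_singleton_iff.1 (hle (hgen.ge (mem_zpowers z)))).symm
  have hu₁1 : u₁ = 1 := hkill z₁ u₁ hz₁ hz₁1 hy'1 hu₁ (mul_inv_eq_one.1 z0)
  rw [hu₁1, one_mul] at hu12
  have hu₂1 : u₂ = 1 := hkill z₂ u₂ hz₂.1 hz₂1 hy'2 hu₂ (by rw [hu12]; exact hfix)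
  exact hu1 (hu12 ▸ hu₂1)

/-- Some non-identity element of `Pl` centralizes `[H, w]`. -/
theorem exists_kernel :
    ∃ c ∈ Pl, c ≠ 1 ∧ ∀ z ∈ ⁅H, zpowers w⁆, c * z = z * c := by
  haveI : Fact s.Prime := ⟨S.ps⟩
  haveI : Fact p.Prime := ⟨S.pp⟩
  obtain ⟨B₁, hB₁, hB₁c, z₁, hz₁, hz₁c, hz₁1⟩ :=
    S.exists_line (S.comm_le K) (S.comm_normalized K) (S.comm_ne_bot K)
  have hN : Pl ≤ normalizer (zpowers z₁ : Set Γ) := by
    rw [← S.line_eq hB₁ hB₁c (S.comm_le K hz₁) hz₁c hz₁1]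
    exact K.le.trans (S.le_normalizer_line hB₁)
  let φ : Pl →* MulAut (zpowers z₁) :=
    (zpowers z₁).normalizerMonoidHom.comp (Subgroup.inclusion hN)
  have hker : φ.ker ≠ ⊥ := by
    intro hk
    have hinj : Function.Injective φ := (MonoidHom.ker_eq_bot_iff φ).1 hk
    have hcard : Nat.card (zpowers z₁) = s := by
      rw [Nat.card_zpowers, orderOf_eq_prime (S.hH.2 _ (S.comm_le K hz₁)) hz₁1]
    haveI : IsCyclic (ZMod (Nat.card (zpowers z₁)))ˣ := by
      rw [hcard]; exact ZMod.isCyclic_units_prime S.ps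
    haveI : IsCyclic (MulAut (zpowers z₁)) :=
      (IsCyclic.mulAutMulEquiv (zpowers z₁)).isCyclic.2 inferInstance
    haveI : IsCyclic Pl := isCyclic_of_injective φ hinj
    obtain ⟨g, hg⟩ := IsCyclic.exists_generator (α := Pl)
    have h1 : Nat.card Pl = orderOf g := (orderOf_eq_card_of_forall_mem_zpowers hg).symm
    have h2 : orderOf g ∣ p := by
      rw [← Subgroup.orderOf_coe]
      exact orderOf_dvd_of_pow_eq_one (S.hE.2 _ (K.le g.2))
    have h3 := Nat.le_of_dvd S.pp.pos h2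
    have h4 := K.card
    have h5 : p < p ^ 2 := lt_self_pow₀ S.pp.one_lt (by norm_num)
    omega
  obtain ⟨c, hc, hc1⟩ := (Subgroup.bot_or_exists_ne_one _).resolve_left hker
  have hfix : (c : Γ) * z₁ * (c : Γ)⁻¹ = z₁ :=
    congrArg Subtype.val (MulEquiv.congr_fun hc ⟨z₁, mem_zpowers z₁⟩)
  obtain ⟨a, ha⟩ := S.scalar K c.2
  have ha1 : a ≡ 1 [MOD s] := by
    have h := ha z₁ hz₁
    rw [hfix] at h
    rw [← orderOf_eq_prime (S.hH.2 _ (S.comm_le K hz₁)) hz₁1]
    exact pow_eq_pow_iff_modEq.1 (by rw [pow_one]; exact h.symm)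
  refine ⟨c, c.2, fun h => hc1 (Subtype.ext h), fun z hz => ?_⟩
  have h := ha z hz
  have hz' : z ^ a = z := by
    by_cases hz1 : z = 1
    · rw [hz1, one_pow]
    · conv_rhs => rw [← pow_one z]
      rw [pow_eq_pow_iff_modEq, orderOf_eq_prime (S.hH.2 _ (S.comm_le K hz)) hz1]
      exact ha1
  exact mul_inv_eq_iff_eq_mul.1 (h.trans hz')

omit K in
/-- Two kinds with distinct subgroups `Pl` cannot coexist. -/
theorem two {w' : Γ} {Pl' : Subgroup Γ} (K : Kind p s E H w Pl) (K' : Kind p s E H w' Pl')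
    (hne : Pl ≠ Pl') : False := by
  haveI : Fact s.Prime := ⟨S.ps⟩
  haveI : Fact p.Prime := ⟨S.pp⟩
  set Z := ⁅H, zpowers w⁆
  set Z' := ⁅H, zpowers w'⁆
  set I := Z ⊓ Z'
  have hIH : I ≤ H := inf_le_left.trans (S.comm_le K)
  have hEI : E ≤ normalizer (I : Set Γ) :=
    Signalizer.le_normalizer_inf (S.comm_normalized K) (S.comm_normalized K')
  -- `|I| ≥ s²`
  have hI : s ^ 2 ≤ Nat.card I := by
    have hn : Z ≤ normalizer (Z' : Set Γ) :=
      (S.comm_le K).trans (Subgroup.normalizer_commutator_ge_left _ _)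
    have h1 : Nat.card (Z ⊔ Z' : Subgroup Γ) * Nat.card I = Nat.card Z * Nat.card Z' :=
      Modules.card_sup_mul_card_inf hn
    have h2 : Nat.card (Z ⊔ Z' : Subgroup Γ) ≤ Nat.card H :=
      Subgroup.card_le_of_le (sup_le (S.comm_le K) (S.comm_le K'))
    have h3 := S.card_H_le K
    have h4 := S.card_comm_ge K'
    have hZ0 : 0 < Nat.card Z := Nat.card_pos
    have hs0 := S.ps.pos
    by_contra hlt
    rw [not_le] at hlt
    have : Nat.card Z * Nat.card Z' < Nat.card Z * s * s ^ 2 := by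
      calc Nat.card Z * Nat.card Z' = Nat.card (Z ⊔ Z' : Subgroup Γ) * Nat.card I := h1.symm
        _ ≤ Nat.card Z * s * Nat.card I := Nat.mul_le_mul_right _ (h2.trans h3)
        _ < Nat.card Z * s * s ^ 2 := Nat.mul_lt_mul_of_pos_left hlt (Nat.mul_pos hZ0 hs0)
    nlinarith [Nat.mul_le_mul_left (Nat.card Z) h4]
  -- all of `E` acts on `I` as powers
  have hsup : Pl ⊔ Pl' = E := by
    refine Subgroup.eq_of_le_of_card_ge (sup_le K.le K'.le) ?_
    have hlt : Pl < Pl ⊔ Pl' := lt_of_le_of_ne le_sup_left fun h => hne (by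
      rw [S.pl_eq K, S.pl_eq K']
      rw [S.pl_eq K, S.pl_eq K'] at h
      refine (Subgroup.eq_of_le_of_card_ge (le_trans le_sup_right h.ge) ?_).symm
      rw [← S.pl_eq K, ← S.pl_eq K']
      have h6 := Signalizer.mul_prime_le_card_of_lt (Signalizer.elemAb_isPGroup S.hE)
        (lt_of_le_of_ne K.le (S.pl_ne K))
      rw [S.cardE] at h6
      nlinarith [K'.card, S.pp.pos])
    have h := Signalizer.mul_prime_le_card_of_lt
      ((Signalizer.elemAb_isPGroup S.hE).to_le (sup_le K.le K'.le)) hlt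
    rw [S.cardE]
    nlinarith [K.card]
  let Sc : Subgroup Γ :=
    { carrier := {e | e ∈ E ∧ ∃ a : ℕ, ∀ z ∈ I, e * z * e⁻¹ = z ^ a}
      one_mem' := ⟨one_mem _, 1, fun z _ => by simp⟩
      mul_mem' := fun {e f} he hf => ⟨E.mul_mem he.1 hf.1, by
        obtain ⟨a, ha⟩ := he.2
        obtain ⟨b, hb⟩ := hf.2
        refine ⟨a * b, fun z hz => ?_⟩
        rw [show e * f * z * (e * f)⁻¹ = e * (f * z * f⁻¹) * e⁻¹ by group, hb z hz, ← conj_pow,
          ha z hz, ← pow_mul]⟩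
      inv_mem' := fun {e} he => ⟨E.inv_mem he.1, by
        obtain ⟨a, ha⟩ := he.2
        refine ⟨a ^ (p - 1), fun z hz => ?_⟩
        have hpow : ∀ n : ℕ, e ^ n * z * (e ^ n)⁻¹ = z ^ (a ^ n) := by
          intro n
          induction n with
          | zero => simp
          | succ n ih =>
            rw [show e ^ (n + 1) * z * (e ^ (n + 1))⁻¹ = e * (e ^ n * z * (e ^ n)⁻¹) * e⁻¹ by group,
              ih, ← conj_pow, ha z hz, ← pow_mul, ← pow_succ']
        have hinv : e⁻¹ = e ^ (p - 1) := by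
          refine inv_eq_of_mul_eq_one_right ?_
          rw [← pow_succ', Nat.sub_add_cancel S.pp.one_le]
          exact S.hE.2 e he.1
        rw [hinv]
        exact hpow _⟩ }
  have hE : E ≤ Sc := by
    rw [← hsup]
    refine sup_le (fun e he => ⟨K.le he, ?_⟩) (fun e he => ⟨K'.le he, ?_⟩)
    · exact (S.scalar K he).imp fun a ha z hz => ha z hz.1
    · exact (S.scalar K' he).imp fun a ha z hz => ha z hz.2
  have hIne : I ≠ ⊥ := fun h => by
    rw [h, Subgroup.card_bot] at hI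
    exact absurd hI (not_le.2 (Nat.one_lt_pow two_ne_zero S.ps.one_lt))
  obtain ⟨B, hB, hBc, z, hz, hzc, hz1⟩ := S.exists_line hIH hEI hIne
  have hIB : I ≤ H ⊓ centralizer (B : Set Γ) := by
    refine le_inf hIH fun u hu => Subgroup.mem_centralizer_iff.2 fun e he => ?_
    obtain ⟨a, ha⟩ := (hE (hB he)).2
    have h1 : z ^ a = z := by
      rw [← ha z hz, Subgroup.mem_centralizer_iff.1 hzc e he, mul_inv_cancel_right]
    have h2 : u ^ a = u := by
      by_cases hu1 : u = 1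
      · rw [hu1, one_pow]
      · conv_rhs => rw [← pow_one u]
        rw [pow_eq_pow_iff_modEq, orderOf_eq_prime (S.hH.2 _ (hIH hu)) hu1]
        have := pow_eq_pow_iff_modEq.1 (h1.trans (pow_one z).symm)
        rwa [orderOf_eq_prime (S.hH.2 _ (hIH hz)) hz1] at this
    exact mul_inv_eq_iff_eq_mul.1 ((ha u hu).trans h2)
  have := (Subgroup.card_le_of_le hIB).trans (S.card_inf_centralizer_le hB hBc)
  have : s < s ^ 2 := lt_self_pow₀ S.ps.one_lt (by norm_num)
  omega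

end KindSetup

end Cfsg.Agent.OddLocal
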